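import Groth.Agent.L20.PnPic.Main
import Groth.Agent.L20.DescLocus.FibTriv
import Groth.Agent.L20.DescLocus.RankBC
import Groth.Agent.L16.ProjSpace.BaseChange
import Groth.Agent.L16.ProjSpace.PosFrames
import Groth.Agent.L16.ProjSpace.TwistMul
import Groth.Agent.L16.ProjSpace.CohTwist
import Groth.Agent.L16.Rees.ClosedFibre
import Groth.Agent.L26.AbDual.Classes
import Groth.Agent.L26.AbDual.Cancel

/-!
# Invertible modules on projective space over a connected base
-/

set_option autoImplicit false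
set_option linter.style.haveILetI false
set_option backward.isDefEq.respectTransparency false
set_option backward.isDefEq.respectTransparency.types false

universe u

open CategoryTheory CategoryTheory.Limits AlgebraicGeometry TopologicalSpace Opposite
open Groth.L18.Frame (rs ro rs_rs rs_self rs_smul ro_ro IsFrame)
open Groth.L18.PUP (P D)
open Groth.Agent.AbDualLib
open Groth.L20.FibTriv

noncomputable section

namespace Groth.L20.PnPic

/-- Over a domain, the twisting sheaves are pairwise non-isomorphic. -/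
theorem twist_iso_inj {n : ℕ} (hn : 1 ≤ n) {R : Type u} [CommRing R] [IsDomain R] {d d' : ℤ}
    (h : Nonempty (Twist.twistProjSpace n R d ≅ Twist.twistProjSpace n R d')) : d = d' := by
  obtain ⟨ψ⟩ := h
  have hd : ((d.toNat : ℕ) : ℤ) = ((-d).toNat : ℕ) + d := by omega
  have hd' : ((d'.toNat : ℕ) : ℤ) = ((-d').toNat : ℕ) + d' := by omega
  let M := Twist.twistProjSpace n R d'
  let g : ∀ i, Γ(Twist.twistProjSpace n R d, D (R := R) i) := fun i => tgen i _ _ hd (D i) le_rfl
  let g' : ∀ i, Γ(M, D (R := R) i) := fun i => tgen i _ _ hd' (D i) le_rfl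
  let ψU : ∀ U : (P n R).Opens, Γ(Twist.twistProjSpace n R d, U) → Γ(M, U) := fun U s => ψ.hom.app U s
  have hrs : ∀ {U V : (P n R).Opens} (hVU : V ≤ U) (s : Γ(Twist.twistProjSpace n R d, U)),
      rs M hVU (ψU U s) = ψU V (rs _ hVU s) := fun hVU s =>
    (congr($(ψ.hom.mapPresheaf.naturality (homOfLE hVU).op) s)).symm
  have hsm : ∀ {U : (P n R).Opens} (a : Γ(P n R, U)) (s : Γ(Twist.twistProjSpace n R d, U)),
      ψU U (a • s) = a • ψU U s := fun a s => ψ.hom.app_smul a s
  have hfr : ∀ i, IsFrame M (D i) (ψU (D i) (g i)) := fun i V hV => by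
    have heq : (fun a : Γ(P n R, V) => a • rs M hV (ψU (D i) (g i))) =
        ψU V ∘ fun a => a • rs _ hV (g i) := by
      funext a
      show a • rs M hV (ψU (D i) (g i)) = ψU V (a • rs _ hV (g i))
      rw [hrs, hsm]
    exact Eq.mpr (congrArg Function.Bijective heq)
      ((ConcreteCategory.bijective_of_isIso (ψ.hom.app V)).comp (tgen_frame i _ _ hd V hV))
  have hc : ∀ i, ∃ c : Rˣ, (cst (D (R := R) i) (c : R)) • g' i = ψU (D i) (g i) := fun i => by
    obtain ⟨a, ha⟩ := (tgen_frame (R := R) i _ _ hd').exists_coeff le_rfl (ψU (D i) (g i))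
    rw [rs_self] at ha
    have hu : IsUnit a := Groth.L18.Frame.isUnit_of_isFrame (tgen_frame i _ _ hd')
      (by rw [ha]; exact hfr i)
    obtain ⟨r, hr, hra⟩ := MvPolynomial.isUnit_iff_eq_C_of_isReduced.1
      (hu.map (chartEquiv (R := R) i).symm)
    refine ⟨hr.unit, ?_⟩
    have hcst : cst (D (R := R) i) r = a := by
      rw [← chartEquiv_C, ← hra]
      exact (chartEquiv (R := R) i).apply_symm_apply a
    rw [IsUnit.unit_spec, hcst]
    exact ha
  choose c hc using hc
  let i : Fin (n + 1) := 0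
  let k : Fin (n + 1) := ⟨1, by omega⟩
  have hi : D (R := R) i ⊓ D k ≤ D i := inf_le_left
  have hk : D (R := R) i ⊓ D k ≤ D k := inf_le_right
  let t := tu (R := R) i k
  have e1 : (cst _ (c k : R) * (t ^ d' : Γ(P n R, D i ⊓ D k)ˣ).val) • rs M hi (g' i) =
      ((t ^ d : Γ(P n R, D i ⊓ D k)ˣ).val * cst _ (c i : R)) • rs M hi (g' i) := by
    have h1 := congrArg (ψU _) (tu_pow_smul_tgen (R := R) i k _ _ hd)
    rw [hsm, ← hrs hi, ← hrs hk, ← hc i, ← hc k, rs_smul, rs_smul, ro_cst, ro_cst,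
      show rs M hk (g' k) = _ from (tu_pow_smul_tgen (R := R) i k _ _ hd').symm, ← mul_smul, ← mul_smul] at h1
    exact h1.symm
  have e2 := (tgen_frame (R := R) i _ _ hd').inj hi e1
  have hpt : pt n R ∈ D (R := R) i ⊓ D k := ⟨pt_mem n R i, pt_mem n R k⟩
  have e3 : cu n R (c k) * evu hpt (t ^ d') = evu hpt (t ^ d) * cu n R (c i) := by
    rw [← evu_cst hpt, ← evu_cst hpt, ← map_mul, ← map_mul]
    exact congrArg (evu hpt) (Units.ext e2)
  rw [map_zpow, map_zpow, evu_tu, ← mon_smul, ← mon_smul] at e3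
  have e4 : cu n R (c k * (c i)⁻¹) * mon n R (d' • δ i k + (-1 : ℤ) • (d • δ i k)) = 1 := by
    rw [map_mul, map_inv, mon_add, mon_smul n R (-1 : ℤ), zpow_neg_one]
    calc cu n R (c k) * (cu n R (c i))⁻¹ * (mon n R (d' • δ i k) * (mon n R (d • δ i k))⁻¹)
        = (cu n R (c k) * mon n R (d' • δ i k)) * ((cu n R (c i))⁻¹ * (mon n R (d • δ i k))⁻¹) := by ac_rfl
      _ = _ := by rw [e3, ← mul_inv, mul_comm (cu n R (c i)), mul_inv_cancel]
  have := congrFun (mon_inj n R e4).2 k
  simp [δ, i, k, Pi.single_apply, Fin.ext_iff] at this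
  omega

variable (r : ℕ) (S : Scheme.{u})

/-- The class of `O(d)` on projective space over a base. -/
def tcl (d : ℤ) : PicF.Cl (CohB1.ProjSpaceOver r S) := PicF.cl (Twist.twistOver r S d)

theorem isInvertibleCl_tcl (d : ℤ) : PicF.IsInvertibleCl (tcl r S d) :=
  ⟨_, rfl, Groth.L18.Ample.isInvertible_pullback _ (Groth.L16.ProjTwist.isInvertible_twistProjSpace r _ d)⟩

theorem cl_twist_add (R : Type u) [CommRing R] (a b : ℤ) :
    PicGrp.mulCl (PicF.cl (Twist.twistProjSpace r R a)) (PicF.cl (Twist.twistProjSpace r R b)) =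
      PicF.cl (Twist.twistProjSpace r R (a + b)) :=
  cl_congr (Groth.L16.ProjTwist.nonempty_tensor_twist_iso_one (CohB1.polyGrading r R) (fun x => by
    obtain ⟨i, hi⟩ := Groth.L16.ProjSpace.exists_mem_basicOpen_X r R x
    exact ⟨⟨_, Groth.L16.ProjSpace.X_mem r R i⟩, hi⟩) a b).some

theorem cl_twist_zero (R : Type u) [CommRing R] :
    PicF.cl (Twist.twistProjSpace r R 0) = oneCl _ :=
  cl_congr (Groth.L16.ProjTwist.nonempty_twist_zero_iso (CohB1.polyGrading r R)).some

theorem tcl_add (a b : ℤ) : PicGrp.mulCl (tcl r S a) (tcl r S b) = tcl r S (a + b) := by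
  show PicGrp.mulCl (PicF.pullCl _ (PicF.cl _)) (PicF.pullCl _ (PicF.cl _)) = PicF.pullCl _ (PicF.cl _)
  rw [← pullCl_mulCl, cl_twist_add]

theorem tcl_zero : tcl r S 0 = oneCl _ := by
  show PicF.pullCl _ (PicF.cl _) = _
  rw [cl_twist_zero, pullCl_oneCl]

theorem mul_tcl_neg (d : ℤ) : PicGrp.mulCl (tcl r S d) (tcl r S (-d)) = oneCl _ := by
  rw [tcl_add, add_neg_cancel, tcl_zero]

variable {S}

/-- Projective space over a field valued point of the base. -/
def toPt {K : Type u} [CommRing K] (b : Spec (CommRingCat.of K) ⟶ S) :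
    CohB1.ProjSpace r K ⟶ CohB1.ProjSpaceOver r S :=
  (Groth.L16.ProjSpace.isoOver r K).hom ≫ Groth.L16.ProjSpace.overMap r b

theorem isPullback_toPt {K : Type u} [CommRing K] (b : Spec (CommRingCat.of K) ⟶ S) :
    IsPullback (toPt r b) (CohB1.ProjSpace.toSpec r K) (CohB1.ProjSpaceOver.toBase r S) b :=
  (Groth.L16.ProjSpace.isPullback_overMap r b).of_iso (Groth.L16.ProjSpace.isoOver r K).symm (Iso.refl _)
    (Iso.refl _) (Iso.refl _) (by simp [toPt]) (by simp [Iso.eq_inv_comp]) (by simp) (by simp)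

theorem toPt_fst {K : Type u} [CommRing K] (b : Spec (CommRingCat.of K) ⟶ S) :
    toPt r b ≫ pullback.fst (CohB1.ProjSpace.toSpec r (ULift.{u} ℤ)) (specULiftZIsTerminal.from S) =
      Groth.L16.ProjSpace.map r ((algebraMap ℤ K).comp ULift.ringEquiv.toRingHom : ULift.{u} ℤ →+* K) := by
  rw [toPt, Category.assoc]
  refine (congrArg (fun z => (Groth.L16.ProjSpace.isoOver r K).hom ≫ z)
    ((pullback.lift_fst _ _ _).trans (Category.comp_id _))).trans ?_
  exact (Groth.L16.ProjSpace.isPullback_over r (R := K)).isoPullback_hom_fst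

theorem pullCl_toPt_tcl {K : Type u} [CommRing K] (b : Spec (CommRingCat.of K) ⟶ S) (d : ℤ) :
    PicF.pullCl (toPt r b) (tcl r S d) = PicF.cl (Twist.twistProjSpace r K d) := by
  have hpos : ∀ n : ℕ, PicF.pullCl (toPt r b) (tcl r S (n : ℤ)) = PicF.cl (Twist.twistProjSpace r K (n : ℤ)) :=
    fun n => by
      show PicF.pullCl _ (PicF.pullCl _ (PicF.cl _)) = _
      rw [← PicLoc.pullCl_comp, toPt_fst]
      exact cl_congr (Groth.L16.ProjSpace.nonempty_pullback_twist_iso r _ n).some
  have hinv : PicF.IsInvertibleCl (PicF.pullCl (toPt r b) (tcl r S d)) :=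
    PicLoc.isInvertibleCl_pullCl _ (isInvertibleCl_tcl r S d)
  refine mulCl_right_cancel hinv ⟨_, rfl, Groth.L16.ProjTwist.isInvertible_twistProjSpace r K d⟩
    ⟨_, rfl, Groth.L16.ProjTwist.isInvertible_twistProjSpace r K ((-d).toNat : ℤ)⟩ ?_
  rw [cl_twist_add, ← hpos, ← pullCl_mulCl, tcl_add, show d + ((-d).toNat : ℤ) = (d.toNat : ℤ) by omega, hpos]

instance geometricallyIntegral_toBase : GeometricallyIntegral (CohB1.ProjSpaceOver.toBase r S) :=
  ⟨fun K _ x W fst snd h => by
    let φ := (isPullback_toPt r x).isoIsPullback _ _ h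
    exact IsIntegral.of_isIso φ.hom⟩

/-- The fibre is a projective space. -/
def fibreIso (y : S) :
    CohB1.ProjSpace r (S.residueField y) ≅ (CohB1.ProjSpaceOver.toBase r S).fiber y :=
  (isPullback_toPt r (K := S.residueField y) (S.fromSpecResidueField y)).isoPullback

theorem fibreIso_fiberι (y : S) :
    (fibreIso r y).hom ≫ (CohB1.ProjSpaceOver.toBase r S).fiberι y =
      toPt r (K := S.residueField y) (S.fromSpecResidueField y) :=
  (isPullback_toPt r (K := S.residueField y) (S.fromSpecResidueField y)).isoPullback_hom_fst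

theorem subsingleton_H1_fibre (y : S) :
    Subsingleton (Coh.HH ((CohB1.ProjSpaceOver.toBase r S).fiber y)
      (Coh.structureModule ((CohB1.ProjSpaceOver.toBase r S).fiber y)) 1) := by
  refine Groth.L16.Rees.ClosedFibre.subsingleton_HH_of_iso (fibreIso r y).hom 1 ?_
  obtain ⟨e⟩ := Groth.L16.ProjTwist.nonempty_twist_zero_iso (CohB1.polyGrading r (S.residueField y))
  have h := Groth.L16.ProjSpace.subsingleton_HH_twist_pos r (S.residueField y) 0 0 (Or.inr (by omega))
  exact @Equiv.subsingleton _ _ (Groth.L17.BC.HHequiv e.symm 1).toEquiv h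

variable (S) in
/-- The degree on the fibre over a point. -/
def HasDeg (c : PicF.Cl (CohB1.ProjSpaceOver r S)) (d : ℤ) (y : S) : Prop :=
  PicF.pullCl (toPt r (K := S.residueField y) (S.fromSpecResidueField y)) c =
    PicF.cl (Twist.twistProjSpace r (S.residueField y) d)

theorem exists_hasDeg {c : PicF.Cl (CohB1.ProjSpaceOver r S)} (hc : PicF.IsInvertibleCl c) (y : S) :
    ∃ d, HasDeg r S c d y := by
  obtain ⟨L, hL, hinv⟩ := PicLoc.isInvertibleCl_pullCl
    (toPt r (K := S.residueField y) (S.fromSpecResidueField y)) hc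
  obtain ⟨d, ⟨e⟩⟩ := exists_iso_twist (n := r) (R := S.residueField y) L hinv
  exact ⟨d, hL.symm.trans (cl_congr e)⟩

/-- The degree is read off from the triviality of the fibre. -/
theorem trivial_fibre_iff {N : (CohB1.ProjSpaceOver r S).Modules} {d : ℤ} (y : S) :
    HasDeg r S (PicF.cl N) d y ↔
      Nonempty (CohIII.fiberMod (CohB1.ProjSpaceOver.toBase r S)
          (CohB1.tensorMod N (Twist.twistOver r S (-d))) y ≅
        Coh.structureModule ((CohB1.ProjSpaceOver.toBase r S).fiber y)) := by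
  rw [← PicGrp.cl_eq_cl_iff]
  show _ ↔ PicF.pullCl ((CohB1.ProjSpaceOver.toBase r S).fiberι y)
    (PicGrp.mulCl (PicF.cl N) (tcl r S (-d))) = oneCl _
  have hinv : ∀ c, PicF.pullCl (fibreIso r y).inv (PicF.pullCl (fibreIso r y).hom c) = c := fun c => by
    rw [← PicLoc.pullCl_comp, Iso.inv_hom_id, PicLoc.pullCl_id]
  rw [HasDeg, ← (Function.LeftInverse.injective hinv).eq_iff, pullCl_oneCl, ← PicLoc.pullCl_comp,
    fibreIso_fiberι, pullCl_mulCl, pullCl_toPt_tcl]
  constructor
  · intro h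
    rw [h, cl_twist_add, add_neg_cancel, cl_twist_zero]
  · intro h
    have h' := congrArg (PicGrp.mulCl · (PicF.cl (Twist.twistProjSpace r (S.residueField y) d))) h
    simp only [mulCl_assoc, cl_twist_add, neg_add_cancel, cl_twist_zero, mul_oneCl, oneCl_mul] at h'
    exact h'

theorem surj [ConnectedSpace S] (N : (CohB1.ProjSpaceOver r S).Modules) (hN : PicF.IsInvertible N) :
    ∃ (L : S.Modules) (d : ℤ), PicF.IsInvertible L ∧
      Nonempty (N ≅ CohB1.tensorMod ((Scheme.Modules.pullback (CohB1.ProjSpaceOver.toBase r S)).obj L)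
        (Twist.twistOver r S d)) := by
  let f := CohB1.ProjSpaceOver.toBase r S
  obtain ⟨y₀⟩ : Nonempty S := inferInstance
  obtain ⟨d, hd⟩ := exists_hasDeg r ⟨N, rfl, hN⟩ y₀
  let R := CohB1.tensorMod N (Twist.twistOver r S (-d))
  have hR : PicF.IsInvertible R :=
    Groth.L18.GenLoc.isInvertible_tensor hN
      (Groth.L18.Ample.isInvertible_pullback _ (Groth.L16.ProjTwist.isInvertible_twistProjSpace r _ _))
  obtain ⟨R', hR', ⟨ρ⟩⟩ := Groth.L08.Cube.exists_inverse hR
  let A : Set S := {y | Nonempty (CohIII.fiberMod f R y ≅ Coh.structureModule (f.fiber y))}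
  have hA : IsClopen A := by
    refine ⟨closure_subset_iff_isClosed.1 fun w hw =>
      Groth.L20.DescLocus.trivial_on_fibres_of_closure f R hR (fun v hv => hv) w hw, ?_⟩
    exact isOpen_iff_eventually.2 fun y hy => exists_nhd_trivial f hR hR' ρ y hy (subsingleton_H1_fibre r y)
  have hall : ∀ y, y ∈ A := fun y => by
    rw [hA.eq_univ ⟨y₀, (trivial_fibre_iff r y₀).1 hd⟩]; trivial
  obtain ⟨hinv, hiso⟩ := desc_of_fibres f hR hall fun y =>
    epi_bc0_of_trivial f hR y (hall y).some (subsingleton_H1_fibre r y)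
  haveI := hiso
  refine ⟨_, d, hinv, (PicGrp.cl_eq_cl_iff _ _).1 ?_⟩
  show PicF.cl N = PicGrp.mulCl (PicF.pullCl f (PicF.cl ((Scheme.Modules.pushforward f).obj R))) (tcl r S d)
  rw [show PicF.pullCl f (PicF.cl ((Scheme.Modules.pushforward f).obj R)) = PicF.cl R from
    cl_congr (asIso ((Scheme.Modules.pullbackPushforwardAdjunction f).counit.app R))]
  show PicF.cl N = PicGrp.mulCl (PicGrp.mulCl (PicF.cl N) (tcl r S (-d))) (tcl r S d)
  rw [mulCl_assoc, tcl_add, neg_add_cancel, tcl_zero, mul_oneCl]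

theorem uniq [Nonempty S] (hr : 1 ≤ r) (L L' : S.Modules) (d d' : ℤ)
    (hL : PicF.IsInvertible L) (hL' : PicF.IsInvertible L')
    (h : Nonempty (CohB1.tensorMod ((Scheme.Modules.pullback (CohB1.ProjSpaceOver.toBase r S)).obj L)
        (Twist.twistOver r S d) ≅
      CohB1.tensorMod ((Scheme.Modules.pullback (CohB1.ProjSpaceOver.toBase r S)).obj L')
        (Twist.twistOver r S d'))) :
    d = d' ∧ Nonempty (L ≅ L') := by
  let f := CohB1.ProjSpaceOver.toBase r S
  have hc : PicGrp.mulCl (PicF.pullCl f (PicF.cl L)) (tcl r S d) =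
      PicGrp.mulCl (PicF.pullCl f (PicF.cl L')) (tcl r S d') := cl_congr h.some
  obtain ⟨y⟩ := ‹Nonempty S›
  let b : Spec (CommRingCat.of (S.residueField y)) ⟶ S := S.fromSpecResidueField y
  haveI : Subsingleton (Spec (CommRingCat.of (S.residueField y))) :=
    inferInstanceAs (Subsingleton (PrimeSpectrum (S.residueField y)))
  have hbase : ∀ M : S.Modules, PicF.IsInvertible M →
      PicF.pullCl (toPt r b) (PicF.pullCl f (PicF.cl M)) = oneCl _ := fun M hM => by
    rw [← PicLoc.pullCl_comp, (isPullback_toPt r b).w, PicLoc.pullCl_comp,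
      eq_oneCl_of_subsingleton (PicLoc.isInvertibleCl_pullCl b ⟨M, rfl, hM⟩), pullCl_oneCl]
  have hdd : d = d' := by
    have h1 := congrArg (PicF.pullCl (toPt r b)) hc
    rw [pullCl_mulCl, pullCl_mulCl, hbase L hL, hbase L' hL', oneCl_mul, oneCl_mul, pullCl_toPt_tcl,
      pullCl_toPt_tcl] at h1
    exact twist_iso_inj hr ((PicGrp.cl_eq_cl_iff _ _).1 h1)
  subst hdd
  obtain ⟨eL⟩ := (PicGrp.cl_eq_cl_iff _ _).1 (mulCl_right_cancel
    (PicLoc.isInvertibleCl_pullCl f ⟨L, rfl, hL⟩) (PicLoc.isInvertibleCl_pullCl f ⟨L', rfl, hL'⟩)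
    (isInvertibleCl_tcl r S d) hc)
  haveI := Groth.L20.PicSep.geometricallyConnected f
  have hO := Groth.L20.DescLocus.isIso_app f
  haveI := Groth.L20.DescLocus.isIso_unit_of_isFinLocFree f hO (Groth.L16.Existence.isFinLocFree_of_isInvertible hL)
  haveI := Groth.L20.DescLocus.isIso_unit_of_isFinLocFree f hO (Groth.L16.Existence.isFinLocFree_of_isInvertible hL')
  exact ⟨rfl, ⟨asIso ((Scheme.Modules.pullbackPushforwardAdjunction f).unit.app L) ≪≫
    (Scheme.Modules.pushforward f).mapIso eL ≪≫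
    (asIso ((Scheme.Modules.pullbackPushforwardAdjunction f).unit.app L')).symm⟩⟩

end Groth.L20.PnPic
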