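import Groth.Agent.L20.PnPic.Units
import Groth.Agent.L21.Extend.UFD
import Groth.Agent.L22.PicGlue.GensIso
import Groth.Agent.L18.Frame
import Groth.Agent.L18.AmplePull
import Groth.Agent.L29.LocFree
import Mathlib.RingTheory.Polynomial.UniqueFactorization

/-!
# Invertible modules on projective space over a factorial domain
-/

set_option autoImplicit false
set_option linter.style.haveILetI false
set_option backward.isDefEq.respectTransparency false
set_option backward.isDefEq.respectTransparency.types false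

universe u

open CategoryTheory AlgebraicGeometry TopologicalSpace Opposite
open Groth.L18.Frame (rs ro rs_rs rs_self rs_smul ro_ro IsFrame)
open Groth.L18.PUP (P D)

noncomputable section

namespace Groth.L20.PnPic

variable (n : ℕ) (R : Type u) [CommRing R] [IsDomain R]

local notation "𝒜" => CohB1.polyGrading n R
local notation "A" => MvPolynomial (Fin (n + 1)) R

/-- The generic point. -/
def pt : P n R where
  asHomogeneousIdeal := ⊥
  isPrime := by rw [HomogeneousIdeal.toIdeal_bot]; exact Ideal.isPrime_bot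
  not_irrelevant_le h := by
    have hX : (MvPolynomial.X 0 : A) ∈ (⊥ : HomogeneousIdeal 𝒜) := h (by
      rw [HomogeneousIdeal.mem_irrelevant_iff, GradedRing.proj_apply,
        DirectSum.decompose_of_mem_ne 𝒜 (Groth.L18.PS.X_mem n 0) one_ne_zero])
    rw [← HomogeneousIdeal.mem_iff, HomogeneousIdeal.toIdeal_bot, Ideal.mem_bot] at hX
    exact MvPolynomial.X_ne_zero 0 hX

theorem pt_mem (i : Fin (n + 1)) : pt n R ∈ D i := by
  refine (Proj.mem_basicOpen _ _ _).2 fun h => ?_
  have h' : (MvPolynomial.X i : A) ∈ (⊥ : HomogeneousIdeal 𝒜).toIdeal := h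
  rw [HomogeneousIdeal.toIdeal_bot, Ideal.mem_bot] at h'
  exact MvPolynomial.X_ne_zero i h'

theorem loc_injective : Function.Injective (algebraMap A (Twist.Loc 𝒜 (pt n R))) :=
  IsLocalization.injective _ (M := (pt n R).asHomogeneousIdeal.toIdeal.primeCompl) fun a ha =>
    mem_nonZeroDivisors_of_ne_zero fun h => ha (h ▸ Ideal.zero_mem _)

/-- A variable at the generic point. -/
def w (i : Fin (n + 1)) : (Twist.Loc 𝒜 (pt n R))ˣ :=
  ((IsLocalization.map_units (Twist.Loc 𝒜 (pt n R))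
    (⟨MvPolynomial.X i, notMem_X (pt_mem n R i)⟩ : (pt n R).asHomogeneousIdeal.toIdeal.primeCompl)) :
      IsUnit (algebraMap A (Twist.Loc 𝒜 (pt n R)) (MvPolynomial.X i))).unit

/-- Monomials with integral exponents at the generic point. -/
def mon (e : Fin (n + 1) → ℤ) : (Twist.Loc 𝒜 (pt n R))ˣ := ∏ i, w n R i ^ e i

/-- The constants at the generic point. -/
def cu : Rˣ →* (Twist.Loc 𝒜 (pt n R))ˣ :=
  Units.map ((algebraMap A (Twist.Loc 𝒜 (pt n R))).comp MvPolynomial.C).toMonoidHom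

theorem mon_add (e f : Fin (n + 1) → ℤ) : mon n R (e + f) = mon n R e * mon n R f := by
  simp only [mon, Pi.add_apply, zpow_add, Finset.prod_mul_distrib]

theorem mon_zero : mon n R 0 = 1 := by simp [mon]

theorem mon_smul (d : ℤ) (e : Fin (n + 1) → ℤ) : mon n R (d • e) = mon n R e ^ d := by
  simp only [mon, Pi.smul_apply, smul_eq_mul, ← Finset.prod_zpow, ← zpow_mul]
  exact Finset.prod_congr rfl fun i _ => by rw [mul_comm]

theorem mon_single (i : Fin (n + 1)) : mon n R (Pi.single i 1) = w n R i := by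
  rw [mon, Finset.prod_eq_single i (fun j _ hj => by simp [hj]) (fun h => absurd (Finset.mem_univ i) h)]
  simp

theorem mon_inj {c : Rˣ} {e : Fin (n + 1) → ℤ} (h : cu n R c * mon n R e = 1) : c = 1 ∧ e = 0 := by
  let p : Fin (n + 1) → ℕ := fun i => (e i).toNat
  let q : Fin (n + 1) → ℕ := fun i => (-e i).toNat
  have he : e + (fun i => (q i : ℤ)) = fun i => (p i : ℤ) := funext fun i => by
    show e i + ((-e i).toNat : ℤ) = ((e i).toNat : ℤ); omega
  have hval : ∀ r : Fin (n + 1) → ℕ, (mon n R fun i => (r i : ℤ)).val =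
      algebraMap A (Twist.Loc 𝒜 (pt n R)) (MvPolynomial.monomial (Finsupp.equivFunOnFinite.symm r) 1) := fun r => by
    rw [MvPolynomial.monomial_eq, map_one, one_mul, Finsupp.prod_fintype _ _ (fun i => pow_zero _), map_prod, mon,
      Units.coe_prod]
    refine Finset.prod_congr rfl fun i _ => ?_
    rw [zpow_natCast, Units.val_pow_eq_pow_val, map_pow]
    rfl
  have h1 : cu n R c * mon n R (fun i => (p i : ℤ)) = mon n R fun i => (q i : ℤ) := by
    rw [← he, mon_add, ← mul_assoc, h, one_mul]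
  have h2 := congrArg Units.val h1
  rw [Units.val_mul, hval, hval] at h2
  have h3 : MvPolynomial.C (c : R) * MvPolynomial.monomial (Finsupp.equivFunOnFinite.symm p) 1 =
      MvPolynomial.monomial (Finsupp.equivFunOnFinite.symm q) 1 := loc_injective n R (by rw [map_mul]; exact h2)
  rw [MvPolynomial.C_mul_monomial, mul_one, MvPolynomial.monomial_eq_monomial_iff] at h3
  rcases h3 with ⟨hpq, hc⟩ | ⟨hc, -⟩
  · refine ⟨Units.ext hc, funext fun i => ?_⟩
    have hi := congrArg (fun s : Fin (n + 1) →₀ ℕ => s i) hpq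
    simp only [p, q, Finsupp.equivFunOnFinite_symm_apply_apply] at hi
    show e i = 0
    omega
  · exact absurd hc c.ne_zero

variable {n R}

/-- Functions at the generic point. -/
def evu {V : (P n R).Opens} (h : pt n R ∈ V) : Γ(P n R, V)ˣ →* (Twist.Loc 𝒜 (pt n R))ˣ :=
  Units.map (evx (pt n R) h).toMonoidHom

/-- The exponent of a ratio. -/
def δ (i k : Fin (n + 1)) : Fin (n + 1) → ℤ := Pi.single k 1 - Pi.single i 1

theorem evu_tu (i k : Fin (n + 1)) (h : pt n R ∈ D i ⊓ D k) : evu h (tu i k) = mon n R (δ i k) := by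
  refine eq_mul_inv_iff_mul_eq.2 (Units.ext ?_) |>.trans (show w n R k * (w n R i)⁻¹ = _ from ?_)
  · show evx (pt n R) h (tu (R := R) i k).val * algebraMap A _ (MvPolynomial.X i) = algebraMap A _ (MvPolynomial.X k)
    rw [evx_tu, Localization.mk_eq_mk']
    exact IsLocalization.mk'_spec _ _ _
  · rw [δ, sub_eq_add_neg, mon_add, mon_single, ← neg_one_smul ℤ (Pi.single i 1 : Fin (n + 1) → ℤ), mon_smul,
      mon_single, zpow_neg_one]

theorem evu_cst {V : (P n R).Opens} (h : pt n R ∈ V) (c : Rˣ) :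
    evu h (Units.map (cst V).toMonoidHom c) = cu n R c := by
  refine Units.ext ?_
  show evx (pt n R) h (cst V (c : R)) = algebraMap A _ (MvPolynomial.C (c : R))
  rw [evx_cst]
  exact Localization.mk_one_eq_algebraMap _

omit [IsDomain R] in
/-- A trivialisation over an open is a frame. -/
theorem exists_frame_of_iso (L : (P n R).Modules) (U : (P n R).Opens)
    (φ : L.restrict U.ι ≅ Coh.structureModule U.toScheme) : ∃ e : Γ(L, U.ι ''ᵁ ⊤), IsFrame L (U.ι ''ᵁ ⊤) e := by
  refine ⟨φ.inv.app ⊤ (1 : Γ(U.toScheme, ⊤)), fun V h => ?_⟩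
  obtain ⟨V, rfl⟩ : ∃ V' : U.toScheme.Opens, U.ι ''ᵁ V' = V := ⟨U.ι ⁻¹ᵁ V, by
    rw [Scheme.Hom.image_preimage_eq_opensRange_inf, Scheme.Opens.opensRange_ι, inf_eq_right]
    exact h.trans_eq U.ι_image_top⟩
  have key : (fun a : Γ(P n R, U.ι ''ᵁ V) => a • rs L h (φ.inv.app ⊤ (1 : Γ(U.toScheme, ⊤)))) =
      fun a : Γ(U.toScheme, V) => φ.inv.app V a := by
    funext a
    have h1 : rs L h (φ.inv.app ⊤ (1 : Γ(U.toScheme, ⊤))) = φ.inv.app V (1 : Γ(U.toScheme, V)) := by
      have := congr($(φ.inv.mapPresheaf.naturality (homOfLE (le_top : V ≤ ⊤)).op) (1 : Γ(U.toScheme, ⊤)))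
      refine Eq.trans ?_ (this.symm.trans (congrArg (φ.inv.app V) (map_one (U.toScheme.presheaf.map (homOfLE (le_top : V ≤ ⊤)).op).hom)))
      rfl
    rw [h1]
    have h2 := φ.inv.app_smul (U := V) (show Γ(U.toScheme, V) from a) (1 : Γ(U.toScheme, V))
    refine Eq.trans ?_ ((congrArg (φ.inv.app V) (show ((show Γ(U.toScheme, V) from a) • (1 : Γ(U.toScheme, V))) = a
      from mul_one _)).symm.trans h2).symm
    exact (Groth.L18.Frame.restrict_smul' L U V a _).symm
  show Function.Bijective fun a : Γ(P n R, U.ι ''ᵁ V) => _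
  rw [key]
  exact ConcreteCategory.bijective_of_isIso (φ.inv.app V)

/-- An invertible module has frames on the standard opens. -/
theorem exists_frame [UniqueFactorizationMonoid R] (L : (P n R).Modules) (hL : PicF.IsInvertible L) (i : Fin (n + 1)) :
    ∃ e : Γ(L, D i), IsFrame L (D i) e := by
  let S : Scheme.{u} := Spec (CommRingCat.of (MvPolynomial (Groth.L16.ProjSpace.ChartVar n i) R))
  let c : S ⟶ P n R := Groth.L16.ProjSpace.chart n R i
  haveI : IsOpenImmersion c := inferInstanceAs (IsOpenImmersion (Groth.L16.ProjSpace.chart n R i))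
  let T : S.Opens := ⊤
  obtain ⟨θ⟩ := Groth.L21.Extend.nonempty_iso_structureModule_of_ufd
    (MvPolynomial (Groth.L16.ProjSpace.ChartVar n i) R) T ((Scheme.Modules.pullback (T.ι ≫ c)).obj L)
    (Groth.L18.Ample.isInvertible_pullback _ hL)
  have hr : Set.range (D (R := R) i).ι ⊆ Set.range c := by
    rw [Scheme.Opens.range_ι, show D (R := R) i = c.opensRange from (Groth.L16.ProjSpace.opensRange_chart n R i).symm]
    exact le_rfl
  let g : (D (R := R) i).toScheme ⟶ T.toScheme := IsOpenImmersion.lift c (D i).ι hr ≫ S.topIso.inv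
  have hg : g ≫ T.ι ≫ c = (D (R := R) i).ι := by
    simp [g, T]
  obtain ⟨e, he⟩ := exists_frame_of_iso L (D i)
    ((Scheme.Modules.restrictFunctorIsoPullback _).app L ≪≫ (Scheme.Modules.pullbackCongr hg.symm).app L ≪≫
      ((Scheme.Modules.pullbackComp g (T.ι ≫ c)).app L).symm ≪≫ (Scheme.Modules.pullback g).mapIso θ ≪≫
      Groth.L29.LocFree.pullbackUnitIso g)
  exact (D (R := R) i).ι_image_top ▸ ⟨e, he⟩

/-- The generator `X i ^ p / X i ^ q` of `O(p - q)`. -/
def tgen (i : Fin (n + 1)) (p q : ℕ) {d : ℤ} (hd : (p : ℤ) = q + d) (V : (P n R).Opens) (hV : V ≤ D i) :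
    Γ(Twist.twistProjSpace n R d, V) :=
  Groth.L16.ProjTwist.gen ⟨(MvPolynomial.X i : A) ^ p, MvPolynomial.isHomogeneous_X_pow i p⟩
    ⟨(MvPolynomial.X i : A) ^ q, MvPolynomial.isHomogeneous_X_pow i q⟩ hd V
    fun x h => notMem_X (hV x.2) (x.1.isPrime.mem_of_pow_mem _ h)

theorem tgen_frame (i : Fin (n + 1)) (p q : ℕ) {d : ℤ} (hd : (p : ℤ) = q + d) :
    IsFrame (Twist.twistProjSpace n R d) (D i) (tgen i p q hd (D i) le_rfl) := by
  intro V h
  have hp : ∀ x : (V : Opens (ProjectiveSpectrum.top 𝒜)), ((MvPolynomial.X i : A) ^ p) ∉ x.1.asHomogeneousIdeal :=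
    fun x hx => notMem_X (h x.2) (x.1.isPrime.mem_of_pow_mem _ hx)
  have hq : ∀ x : (V : Opens (ProjectiveSpectrum.top 𝒜)), ((MvPolynomial.X i : A) ^ q) ∉ x.1.asHomogeneousIdeal :=
    fun x hx => notMem_X (h x.2) (x.1.isPrime.mem_of_pow_mem _ hx)
  exact ⟨Groth.L16.ProjTwist.smul_gen_injective
      ⟨_, MvPolynomial.isHomogeneous_X_pow i p⟩ ⟨_, MvPolynomial.isHomogeneous_X_pow i q⟩ hd V hq hp,
    Groth.L16.ProjTwist.smul_gen_surjective
      ⟨_, MvPolynomial.isHomogeneous_X_pow i p⟩ ⟨_, MvPolynomial.isHomogeneous_X_pow i q⟩ hd V hp hq⟩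

theorem mk_pow {x : P n R} (a : A) (s : x.asHomogeneousIdeal.toIdeal.primeCompl) (k : ℕ) :
    (Localization.mk a s : Twist.Loc 𝒜 x) ^ k = Localization.mk (a ^ k) (s ^ k) := Localization.mk_pow k a s

/-- The transition of the twisting sheaf. -/
theorem tu_pow_smul_tgen (i k : Fin (n + 1)) (p q : ℕ) {d : ℤ} (hd : (p : ℤ) = q + d) :
    ((tu (R := R) i k ^ d : Γ(P n R, D i ⊓ D k)ˣ) : Γ(P n R, D i ⊓ D k)) •
        rs (Twist.twistProjSpace n R d) (inf_le_left : D i ⊓ D k ≤ D i) (tgen i p q hd (D i) le_rfl) =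
      rs (Twist.twistProjSpace n R d) (inf_le_right : D i ⊓ D k ≤ D k) (tgen k p q hd (D k) le_rfl) := by
  refine Subtype.ext (funext fun x => Subtype.ext ?_)
  erw [Twist.coe_smul_val]
  show evx x.1 x.2 (tu (R := R) i k ^ d : Γ(P n R, D i ⊓ D k)ˣ).val * Localization.mk _ _ = Localization.mk _ _
  have h1 : evx x.1 x.2 (tu (R := R) i k ^ d : Γ(P n R, D i ⊓ D k)ˣ).val *
      Localization.mk ((MvPolynomial.X k : A) ^ q) (⟨MvPolynomial.X i, notMem_X x.2.1⟩ ^ q) =
      Localization.mk ((MvPolynomial.X k : A) ^ p) (⟨MvPolynomial.X i, notMem_X x.2.1⟩ ^ p) := by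
    have h := congrArg (fun t : Γ(P n R, D i ⊓ D k)ˣ => evx x.1 x.2 t.val)
      ((zpow_add (tu (R := R) i k) d q).symm.trans (congrArg (tu (R := R) i k ^ ·) (show d + q = (p : ℤ) by omega)))
    simp only [zpow_natCast, Units.val_mul, map_mul, Units.val_pow_eq_pow_val, map_pow, evx_tu] at h
    rwa [mk_pow, mk_pow] at h
  have hk : IsUnit (Localization.mk ((MvPolynomial.X k : A) ^ q) (⟨MvPolynomial.X i, notMem_X x.2.1⟩ ^ q) :
      Twist.Loc 𝒜 x.1) := by
    rw [Localization.mk_eq_mk', IsLocalization.AtPrime.isUnit_mk'_iff]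
    exact fun h => notMem_X x.2.2 (x.1.isPrime.mem_of_pow_mem _ h)
  apply hk.mul_left_cancel
  rw [← mul_assoc, mul_comm (Localization.mk _ _) (evx _ _ _), h1]
  show _ * Localization.mk _ (⟨_, _⟩ : x.1.asHomogeneousIdeal.toIdeal.primeCompl) = _ * Localization.mk _ _
  rw [Localization.mk_mul, Localization.mk_mul, Localization.mk_eq_mk_iff, Localization.r_iff_exists]
  refine ⟨1, ?_⟩
  simp only [OneMemClass.coe_one, one_mul, Submonoid.coe_mul, SubmonoidClass.coe_pow]
  ring

/-- Every invertible module is a twist. -/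
theorem exists_iso_twist [UniqueFactorizationMonoid R] (L : (P n R).Modules) (hL : PicF.IsInvertible L) :
    ∃ d : ℤ, Nonempty (L ≅ Twist.twistProjSpace n R d) := by
  choose e he using exists_frame L hL
  have hu : ∀ i k, ∃ a : Γ(P n R, D i ⊓ D k)ˣ,
      a.val • rs L (inf_le_left : D i ⊓ D k ≤ D i) (e i) = rs L inf_le_right (e k) := fun i k => by
    obtain ⟨a, ha⟩ := ((he i).mono (inf_le_left : D i ⊓ D k ≤ D i)).exists_coeff le_rfl (rs L inf_le_right (e k))
    rw [rs_self] at ha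
    have : IsUnit a := Groth.L18.Frame.isUnit_of_isFrame ((he i).mono inf_le_left)
      (by rw [ha]; exact (he k).mono inf_le_right)
    exact ⟨this.unit, by rw [IsUnit.unit_spec]; exact ha⟩
  choose u hu using hu
  have hpt : ∀ i k, pt n R ∈ D (R := R) i ⊓ D k := fun i k => ⟨pt_mem n R i, pt_mem n R k⟩
  have hcoc : ∀ i j k, evu (hpt i k) (u i k) = evu (hpt i j) (u i j) * evu (hpt j k) (u j k) := by
    intro i j k
    let V := D (R := R) i ⊓ D j ⊓ D k
    have hV1 : V ≤ D i ⊓ D j := inf_le_left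
    have hV2 : V ≤ D j ⊓ D k := inf_le_inf_right _ inf_le_right
    have hV3 : V ≤ D i ⊓ D k := inf_le_inf_right _ inf_le_left
    have h1 := congrArg (rs L hV1) (hu i j)
    have h2 := congrArg (rs L hV2) (hu j k)
    have h3 := congrArg (rs L hV3) (hu i k)
    rw [rs_smul, rs_rs, rs_rs] at h1 h2 h3
    have key := (he i).inj (hV1.trans inf_le_left)
      (show ro hV3 (u i k).val • rs L (hV1.trans inf_le_left) (e i) =
        (ro hV2 (u j k).val * ro hV1 (u i j).val) • rs L (hV1.trans inf_le_left) (e i) by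
        rw [mul_smul, h1, h2, ← h3])
    refine Units.ext ?_
    have hx : pt n R ∈ V := ⟨hpt i j, pt_mem n R k⟩
    have := congrArg (evx (pt n R) hx) key
    rw [map_mul, evx_ro, evx_ro, evx_ro, mul_comm] at this
    exact this
  have hform : ∀ i k, k ≠ i → ∃ (c : Rˣ) (m : ℤ), u i k = Units.map (cst _).toMonoidHom c * tu i k ^ m ∧
      evu (hpt i k) (u i k) = cu n R c * mon n R (m • δ i k) := fun i k hik => by
    obtain ⟨c, m, h⟩ := exists_unit_D hik (u i k)
    exact ⟨c, m, h, by rw [h, map_mul, map_zpow, evu_cst, evu_tu, mon_smul]⟩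
  have hself : ∀ i, evu (hpt i i) (u i i) = 1 := fun i =>
    mul_left_cancel ((hcoc i i i).symm.trans (mul_one _).symm)
  -- the shape of the transitions out of the first open
  have h0 : ∀ k, ∃ (c : Rˣ) (m : ℤ), evu (hpt 0 k) (u 0 k) = cu n R c * mon n R (m • δ 0 k) := fun k => by
    by_cases hk : k = 0
    · subst hk
      exact ⟨1, 0, by rw [hself, map_one, zero_smul, mon_zero, one_mul]⟩
    · obtain ⟨c, m, -, h⟩ := hform 0 k hk
      exact ⟨c, m, h⟩
  choose c m hcm using h0
  have δ_apply : ∀ i k l : Fin (n + 1), δ i k l = (if l = k then 1 else 0) - if l = i then 1 else 0 := fun i k l => by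
    simp [δ, Pi.single_apply]
  have hm : ∀ j k : Fin (n + 1), j ≠ 0 → k ≠ 0 → m j = m k := by
    intro j k hj hk
    by_cases hjk : j = k
    · rw [hjk]
    obtain ⟨b, r, -, hb⟩ := hform j k (Ne.symm hjk)
    have h := hcoc 0 j k
    rw [hcm, hcm, hb] at h
    have h' : cu n R (c j * b * (c k)⁻¹) * mon n R (m j • δ 0 j + r • δ j k + (-1 : ℤ) • (m k • δ 0 k)) = 1 := by
      rw [map_mul, map_mul, map_inv, mon_add, mon_add, mon_smul n R (-1 : ℤ), zpow_neg_one]
      calc cu n R (c j) * cu n R b * (cu n R (c k))⁻¹ *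
            (mon n R (m j • δ 0 j) * mon n R (r • δ j k) * (mon n R (m k • δ 0 k))⁻¹)
          = (cu n R (c j) * mon n R (m j • δ 0 j) * (cu n R b * mon n R (r • δ j k))) *
            ((cu n R (c k))⁻¹ * (mon n R (m k • δ 0 k))⁻¹) := by ac_rfl
        _ = _ := by rw [← h, ← mul_inv, mul_inv_cancel]
    obtain ⟨-, he0⟩ := mon_inj n R h'
    have hj' := congrFun he0 j
    have hk' := congrFun he0 k
    simp [δ_apply, hj, hk, hjk, Ne.symm hjk] at hj' hk'
    omega
  obtain ⟨d, hd⟩ : ∃ d, ∀ k, k ≠ 0 → m k = d := by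
    by_cases hn : ∃ j : Fin (n + 1), j ≠ 0
    · obtain ⟨j, hj⟩ := hn
      exact ⟨m j, fun k hk => hm k j hk hj⟩
    · exact ⟨0, fun k hk => absurd ⟨k, hk⟩ hn⟩
  have h0d : ∀ k, evu (hpt 0 k) (u 0 k) = cu n R (c k) * mon n R (d • δ 0 k) := fun k => by
    rw [hcm k]
    by_cases hk : k = 0
    · subst hk; rw [show δ (0 : Fin (n + 1)) 0 = 0 from sub_self _, smul_zero, smul_zero]
    · rw [hd k hk]
  -- rescale
  let e' : ∀ i, Γ(L, D i) := fun i => (Units.map (cst (R := R) (D i)).toMonoidHom (c i)⁻¹).val • e i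
  have he' : ∀ i, IsFrame L (D i) (e' i) := fun i => (he i).smul_unit (Units.isUnit _)
  have htr : ∀ i k, (tu (R := R) i k ^ d : Γ(P n R, D i ⊓ D k)ˣ).val •
      rs L (inf_le_left : D i ⊓ D k ≤ D i) (e' i) = rs L inf_le_right (e' k) := by
    intro i k
    obtain ⟨a, ha⟩ : ∃ a : Γ(P n R, D i ⊓ D k)ˣ, a = u i k * Units.map (cst _).toMonoidHom (c i * (c k)⁻¹) :=
      ⟨_, rfl⟩
    have hrel : a.val • rs L (inf_le_left : D i ⊓ D k ≤ D i) (e' i) = rs L inf_le_right (e' k) := by
      simp only [e', rs_smul, ← hu i k, ← mul_smul]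
      congr 1
      rw [ha]
      simp only [Units.val_mul, Units.coe_map, RingHom.toMonoidHom_eq_coe, MonoidHom.coe_coe, ro_cst, map_mul]
      calc (u i k).val * (cst _ ((c i : R)) * cst _ (((c k)⁻¹ : Rˣ) : R)) * cst _ (((c i)⁻¹ : Rˣ) : R)
          = cst _ (((c k)⁻¹ : Rˣ) : R) * (u i k).val * (cst _ ((c i : R)) * cst _ (((c i)⁻¹ : Rˣ) : R)) := by ring
        _ = _ := by rw [← map_mul, ← Units.val_mul, mul_inv_cancel, Units.val_one, map_one, mul_one]
    have hev : evu (hpt i k) a = mon n R (d • δ i k) := by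
      have h := hcoc 0 i k
      rw [h0d, h0d] at h
      have e3 : d • δ i k = d • δ (0 : Fin (n + 1)) k + (-1 : ℤ) • (d • δ (0 : Fin (n + 1)) i) := by
        funext l; simp [δ_apply]; split_ifs <;> ring
      rw [ha, map_mul, evu_cst, eq_mul_inv_iff_mul_eq.2 ((mul_comm _ _).trans h.symm), e3, mon_add, mon_smul n R (-1 : ℤ),
        zpow_neg_one, map_mul, map_inv, mul_inv]
      calc cu n R (c k) * mon n R (d • δ 0 k) * ((cu n R (c i))⁻¹ * (mon n R (d • δ 0 i))⁻¹) *
            (cu n R (c i) * (cu n R (c k))⁻¹)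
          = mon n R (d • δ 0 k) * (mon n R (d • δ 0 i))⁻¹ * (cu n R (c k) * (cu n R (c k))⁻¹) *
            ((cu n R (c i))⁻¹ * cu n R (c i)) := by ac_rfl
        _ = _ := by rw [mul_inv_cancel, inv_mul_cancel, mul_one, mul_one]
    suffices a = tu i k ^ d by rw [← this]; exact hrel
    by_cases hik : k = i
    · subst hik
      have h1 : a.val = 1 := ((he' k).mono (inf_le_left : D k ⊓ D k ≤ D k)).inj le_rfl (by
        rw [rs_self, one_smul]; exact hrel)
      have h2 : tu (R := R) k k = 1 := Units.ext (ext_evx fun x hx => by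
        rw [evx_tu, Units.val_one, map_one, ← Localization.mk_one, Localization.mk_eq_mk_iff, Localization.r_iff_exists]
        exact ⟨1, by simp only [OneMemClass.coe_one, one_mul, mul_one]⟩)
      rw [h2, one_zpow]
      exact Units.ext h1
    · obtain ⟨b, r, hb⟩ := exists_unit_D hik a
      have h := hev
      rw [hb, map_mul, map_zpow, evu_cst, evu_tu, ← mon_smul] at h
      have h' : cu n R b * mon n R (r • δ i k + (-1 : ℤ) • (d • δ i k)) = 1 := by
        rw [mon_add, ← mul_assoc, h, mon_smul n R (-1 : ℤ), zpow_neg_one, mul_inv_cancel]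
      obtain ⟨hb1, hrd⟩ := mon_inj n R h'
      have := congrFun hrd k
      simp [δ_apply, hik] at this
      rw [hb, hb1, map_one, one_mul, show r = d by omega]
  refine ⟨d, ?_⟩
  have hd' : ((d.toNat : ℕ) : ℤ) = ((-d).toNat : ℕ) + d := by omega
  refine Groth.L22.PicGlue.nonempty_iso_of_gens (X := P n R) (fun i : ULift.{u} (Fin (n + 1)) => D i.down)
    (e := fun i => e' i.down) (e' := fun i => tgen i.down d.toNat (-d).toNat hd' (D i.down) le_rfl)
    (fun i => he' i.down) (fun i => tgen_frame i.down _ _ hd')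
    (fun x => ⟨⟨_⟩, (Groth.L16.ProjSpace.exists_mem_basicOpen_X n R x).choose_spec⟩) ?_
  intro i k W hi hk a ha
  have hW : W ≤ D i.down ⊓ D k.down := le_inf hi hk
  have h1 := congrArg (rs L hW) (htr i.down k.down)
  rw [rs_smul, rs_rs, rs_rs] at h1
  obtain rfl : a = ro hW (tu (R := R) i.down k.down ^ d : Γ(P n R, D i.down ⊓ D k.down)ˣ).val :=
    (he' i.down).inj hi (ha.trans h1.symm)
  have h2 := congrArg (rs (Twist.twistProjSpace n R d) hW) (tu_pow_smul_tgen i.down k.down _ _ hd')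
  rw [rs_smul, rs_rs, rs_rs] at h2
  exact h2

end Groth.L20.PnPic
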