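import Groth.Agent.L18.ProjSpaceUP
import Groth.Agent.L16.ProjSpace.Sections
import Mathlib.Algebra.MvPolynomial.Division
import Mathlib.Algebra.MvPolynomial.Nilpotent

/-!
# Units on the intersections of the standard opens of projective space
-/

set_option autoImplicit false
set_option linter.style.haveILetI false
set_option backward.isDefEq.respectTransparency false
set_option backward.isDefEq.respectTransparency.types false

universe u

open CategoryTheory AlgebraicGeometry TopologicalSpace Opposite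

noncomputable section

namespace Groth.L20.PnPic

open Groth.L18.Frame (ro)
open Groth.L18.PUP (P pr D cc)

/-- The units of a domain localized away from a prime. -/
theorem exists_unit_eq {A L : Type*} [CommRing A] [IsDomain A] [CommRing L] [Algebra A L] {T : A}
    (hT : Prime T) [IsLocalization.Away T L] (t : Lˣ) (ht : (t : L) = algebraMap A L T) (u : Lˣ) :
    ∃ (c : Aˣ) (m : ℤ), u = Units.map (algebraMap A L).toMonoidHom c * t ^ m := by
  have hinj : Function.Injective (algebraMap A L) :=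
    IsLocalization.injective L (M := Submonoid.powers T) (powers_le_nonZeroDivisors_of_noZeroDivisors hT.ne_zero)
  obtain ⟨a, ⟨_, l, rfl⟩, ha⟩ := IsLocalization.exists_mk'_eq (Submonoid.powers T) (u : L)
  obtain ⟨b, ⟨_, l', rfl⟩, hb⟩ := IsLocalization.exists_mk'_eq (Submonoid.powers T) ((u⁻¹ : Lˣ) : L)
  rw [IsLocalization.mk'_eq_iff_eq_mul, map_pow] at ha hb
  have hab : a * b = T ^ (l + l') := hinj (by
    rw [map_mul, ha, hb, map_pow, pow_add]
    calc (u : L) * algebraMap A L T ^ l * ((u⁻¹ : Lˣ) * algebraMap A L T ^ l')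
        = ((u : L) * (u⁻¹ : Lˣ)) * (algebraMap A L T ^ l * algebraMap A L T ^ l') := by ring
      _ = _ := by rw [Units.mul_inv, one_mul])
  obtain ⟨s, -, hs⟩ := (dvd_prime_pow hT (l + l')).1 ⟨b, hab.symm⟩
  obtain ⟨c, hc⟩ := hs.symm
  refine ⟨c, (s : ℤ) - l, Units.ext ?_⟩
  rw [Units.val_mul, Units.coe_map, ← (t ^ l).mul_left_inj, Units.val_pow_eq_pow_val, ht, ← ha, ← hc,
    map_mul, map_pow, ← ht, ← Units.val_pow_eq_pow_val, ← Units.val_pow_eq_pow_val, mul_assoc,
    ← Units.val_mul, ← zpow_natCast, ← zpow_natCast, ← zpow_add, sub_add_cancel]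
  exact mul_comm _ _

variable {n : ℕ} {R : Type u} [CommRing R]

local notation "𝒜" => CohB1.polyGrading n R

/-- The value of a function at a point, as a fraction. -/
def evx {V : (P n R).Opens} (x : P n R) (hx : x ∈ V) : Γ(P n R, V) →+* Twist.Loc 𝒜 x where
  toFun c := ((show Twist.O (op V) from c).1 ⟨x, hx⟩).val
  map_one' := HomogeneousLocalization.val_one
  map_mul' a b := HomogeneousLocalization.val_mul _ _
  map_zero' := HomogeneousLocalization.val_zero
  map_add' a b := HomogeneousLocalization.val_add _ _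

theorem evx_ro {V W : (P n R).Opens} (h : W ≤ V) (x : P n R) (hx : x ∈ W) (c : Γ(P n R, V)) :
    evx x hx (ro h c) = evx x (h hx) c := rfl

/-- The constants. -/
def cst (V : (P n R).Opens) : R →+* Γ(P n R, V) :=
  ((P n R).presheaf.map (homOfLE (le_top : V ≤ ⊤)).op).hom.comp (Coh.toGlobal (pr n R))

theorem ro_cst {V W : (P n R).Opens} (h : W ≤ V) (r : R) : ro h (cst V r) = cst W r :=
  Groth.L18.Frame.ro_ro _ _ _

theorem evx_cst {V : (P n R).Opens} (x : P n R) (hx : x ∈ V) (r : R) :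
    evx x hx (cst V r) = Localization.mk (MvPolynomial.C r) ⟨1, Groth.L16.ProjTwist.one_notMem 𝒜 x⟩ :=
  Groth.L16.ProjSpace.toGlobal_apply_val r ⟨x, trivial⟩

theorem notMem_X {i : Fin (n + 1)} {x : P n R} (hx : x ∈ D i) :
    (MvPolynomial.X i : MvPolynomial (Fin (n + 1)) R) ∉ x.asHomogeneousIdeal :=
  (Proj.mem_basicOpen _ _ _).1 hx

theorem evx_cc {i k : Fin (n + 1)} (x : P n R) (hx : x ∈ D i) :
    evx x hx (cc (R := R) i k) = Localization.mk (MvPolynomial.X k) ⟨MvPolynomial.X i, notMem_X hx⟩ := by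
  show HomogeneousLocalization.val ((Proj.awayToSection 𝒜 (MvPolynomial.X i) (Groth.L18.PS.coord i k)).1 ⟨x, hx⟩) = _
  erw [ProjectiveSpectrum.Proj.awayToSection_apply]
  rw [Groth.L18.PS.coord, HomogeneousLocalization.Away.val_mk, Localization.mk_eq_mk', IsLocalization.map_mk',
    ← Localization.mk_eq_mk', Localization.mk_eq_mk_iff, Localization.r_iff_exists]
  exact ⟨1, by simp⟩

theorem ext_evx {V : (P n R).Opens} {a b : Γ(P n R, V)} (h : ∀ x hx, evx x hx a = evx x hx b) : a = b :=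
  Subtype.ext (funext fun x => HomogeneousLocalization.val_injective _ (h x.1 x.2))

theorem cc_mul (i k : Fin (n + 1)) :
    ro (inf_le_left : D i ⊓ D k ≤ D i) (cc (R := R) i k) * ro (inf_le_right : D i ⊓ D k ≤ D k) (cc k i) = 1 := by
  refine ext_evx fun x hx => ?_
  rw [map_mul, evx_ro, evx_ro, evx_cc, evx_cc, Localization.mk_mul, map_one, ← Localization.mk_one,
    Localization.mk_eq_mk_iff, Localization.r_iff_exists]
  refine ⟨1, ?_⟩
  simp only [OneMemClass.coe_one, one_mul, Submonoid.coe_mul, mul_one]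
  exact mul_comm _ _

/-- The ratio as a unit. -/
def tu (i k : Fin (n + 1)) : (Γ(P n R, D i ⊓ D k))ˣ :=
  ⟨ro (inf_le_left : D i ⊓ D k ≤ D i) (cc (R := R) i k), ro (inf_le_right : D i ⊓ D k ≤ D k) (cc k i),
    cc_mul i k, (mul_comm _ _).trans (cc_mul i k)⟩

theorem evx_tu (i k : Fin (n + 1)) (x : P n R) (hx : x ∈ D i ⊓ D k) :
    evx x hx (tu (R := R) i k).val =
      Localization.mk (MvPolynomial.X k) ⟨MvPolynomial.X i, notMem_X hx.1⟩ :=
  (evx_ro inf_le_left x hx (cc i k)).trans (evx_cc x hx.1)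

theorem D_inf_eq (i k : Fin (n + 1)) : D (R := R) i ⊓ D k = (P n R).basicOpen (cc i k) := by
  refine le_antisymm ?_ (le_inf ((P n R).basicOpen_le _) (Groth.L18.PUP.basicOpen_cc i k))
  have h : (P n R).basicOpen (ro (inf_le_left : D i ⊓ D k ≤ D i) (cc (R := R) i k)) = D i ⊓ D k :=
    Scheme.basicOpen_of_isUnit _ (tu (R := R) i k).isUnit
  exact h.ge.trans ((Scheme.basicOpen_res _ _ _).le.trans inf_le_right)

/-- The chart ring. -/
def chartEquiv (i : Fin (n + 1)) :
    MvPolynomial (Groth.L16.ProjSpace.ChartVar n i) R ≃+* Γ(P n R, D i) :=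
  (Groth.L16.ProjSpace.awayEquiv n R i).trans
    (Proj.basicOpenIsoAway 𝒜 (MvPolynomial.X i) (Groth.L18.PS.X_mem n i) one_pos).commRingCatIsoToRingEquiv

theorem chartEquiv_X (i : Fin (n + 1)) (k : Groth.L16.ProjSpace.ChartVar n i) :
    chartEquiv (R := R) i (MvPolynomial.X k) = cc i k.1 := by
  show Proj.awayToSection 𝒜 _ (Groth.L16.ProjSpace.toAway n R i (MvPolynomial.X k)) = _
  rw [Groth.L16.ProjSpace.toAway_X, cc]
  congr 1
  apply HomogeneousLocalization.val_injective
  rw [Groth.L18.PS.coord, HomogeneousLocalization.Away.val_mk]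
  show Localization.mk _ _ = _
  congr 1
  exact Subtype.ext (pow_one _).symm

theorem chartEquiv_C (i : Fin (n + 1)) (r : R) :
    chartEquiv (R := R) i (MvPolynomial.C r) = cst (D i) r := by
  refine ext_evx fun x hx => ?_
  rw [evx_cst]
  show HomogeneousLocalization.val
    ((Proj.awayToSection 𝒜 _ (Groth.L16.ProjSpace.toAway n R i (MvPolynomial.C r))).1 ⟨x, hx⟩) = _
  rw [Groth.L16.ProjSpace.toAway_C]
  erw [ProjectiveSpectrum.Proj.awayToSection_apply]
  rw [Groth.L16.ProjSpace.val_constHom, Groth.L16.ProjSpace.ι, IsLocalization.map_eq, RingHom.id_apply]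
  exact (Localization.mk_one_eq_algebraMap _).symm

/-- The units on the intersection of two standard opens. -/
theorem exists_unit_D [IsDomain R] {i k : Fin (n + 1)} (hik : k ≠ i) (u : (Γ(P n R, D i ⊓ D k))ˣ) :
    ∃ (c : Rˣ) (m : ℤ), u = Units.map (cst (D i ⊓ D k)).toMonoidHom c * tu i k ^ m := by
  haveI : IsDomain Γ(P n R, D i) := (chartEquiv (R := R) i).symm.toMulEquiv.isDomain
  have hT : Prime (cc (R := R) i k) := by
    rw [← chartEquiv_X i ⟨k, hik⟩]
    exact (MulEquiv.prime_iff (chartEquiv (R := R) i).toMulEquiv).2 MvPolynomial.X_prime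
  letI : Algebra Γ(P n R, D i) Γ(P n R, D i ⊓ D k) :=
    ((P n R).presheaf.map (homOfLE (inf_le_left : D i ⊓ D k ≤ D i)).op).hom.toAlgebra
  have hDi : IsAffineOpen (D (R := R) i) :=
    Proj.isAffineOpen_basicOpen 𝒜 _ (Groth.L18.PS.X_mem n i) one_pos
  haveI : IsLocalization.Away (cc (R := R) i k) Γ(P n R, D i ⊓ D k) := by
    have h := hDi.isLocalization_of_eq_basicOpen (cc (R := R) i k)
      (homOfLE (inf_le_left : D i ⊓ D k ≤ D i)) (D_inf_eq i k)
    exact h
  obtain ⟨c, m, hcm⟩ := exists_unit_eq hT (tu i k) rfl u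
  let c' := Units.map (chartEquiv (R := R) i).symm.toMonoidHom c
  obtain ⟨r, hr, hrc⟩ := MvPolynomial.isUnit_iff_eq_C_of_isReduced.1 c'.isUnit
  refine ⟨hr.unit, m, ?_⟩
  rw [hcm]
  congr 1
  ext
  show ro inf_le_left (c : Γ(P n R, D i)) = cst _ (hr.unit : R)
  rw [IsUnit.unit_spec, show (c : Γ(P n R, D i)) = chartEquiv i (MvPolynomial.C r) from by
    rw [← hrc]; exact ((chartEquiv (R := R) i).apply_symm_apply _).symm, chartEquiv_C, ro_cst]

end Groth.L20.PnPic
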